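import Cfsg.Agent.TwoF.DC.Asm.Fld

/-!
# TwoF, defining characteristic, assembly (10): `BoxRel` from the five boxes (helper85)
-/

set_option autoImplicit false
set_option linter.unusedSectionVars false
set_option linter.unusedVariables false

namespace Cfsg.Agent.TwoF.DC

open Module Finset Cfsg.Agent.H45.Uni Cfsg.Agent.H45.UniE Cfsg.Agent.TwoF.Gen
open scoped TensorProduct

theorem hom_eq_of_center {T K : Type*} [Group T] [Group K] (hT : commutator T = ⊤) {f g : T →* K}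
    (h : ∀ t, (f t)⁻¹ * g t ∈ Subgroup.center K) : f = g := by
  have h1 : commutator T ≤ f.eqLocus g := by
    rw [commutator_def, Subgroup.commutator_le]
    intro a _ b _
    have e : ∀ t x, g t * x * (g t)⁻¹ = f t * x * (f t)⁻¹ := fun t x => by
      have h1 := Subgroup.mem_center_iff.1 (h t) x
      calc _ = f t * ((f t)⁻¹ * g t * x) * (g t)⁻¹ := by group
        _ = _ := by rw [← h1]; group
    show f _ = g _
    rw [map_commutatorElement, map_commutatorElement, commutatorElement_def, commutatorElement_def, e a, mul_assoc (f a),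
      mul_assoc (f a), mul_assoc (f a), mul_assoc (f a), e b]
  exact MonoidHom.ext fun t => h1 (hT ▸ Subgroup.mem_top t)

variable {p : ℕ} [hp : Fact p.Prime] {ι Φ k G : Type} [Fintype ι] [DecidableEq ι] [Fintype Φ] [DecidableEq Φ] [Field k]
  [Infinite k] [CharP k p] [Group G] {D : RDat p ι Φ k G} {T S : Type} [Group T] [Finite T] [Group S]
  {Y U : Type} [Group Y] [Finite Y] [AddCommGroup U] [Module k U]

namespace Ctx

variable {M : Std D T S} {ok : (ι → ℕ) → Prop} {C : Can D} {ρ : Representation k Y U} {ψ : T →* Y} {irrK : Prop}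
  (X : Ctx M ok C ρ ψ irrK)

include X

theorem graph_step {a b : Y} (ha : a ^ p = 1) (hb : b ^ p = 1) (hab : a * b = b * a) {γ γ' : M.Gr} (H : M.Ac ψ a γ 0)
    (H' : M.Ac ψ b γ' 0) (hγ : γ ≠ 1) : ∃ i : ℕ, a ^ i * b ∈ ψ.range := by
  have h1 : Commute γ γ' := (X.uniq (by rw [(show Commute a b from hab).mul_pow, ha, hb, one_mul])
    (hab ▸ H'.mul X.deg1 X.fa H) (H.mul X.deg1 X.fa H') M.f_pos).2
  have h2 : IsElementaryAbelian p (Subgroup.closure {γ, γ'}) := elemAb_closure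
    (by rintro _ (rfl | rfl) _ (rfl | rfl); exacts [Commute.refl _, h1, h1.symm, Commute.refl _])
    (by rintro _ (rfl | rfl); exacts [X.pow_γ ha H, X.pow_γ hb H'])
  obtain ⟨i, hi⟩ := (mem_powers_iff_mem_zpowers).2 (mem_zpowers_of_six M.Gr_small (elemAb_isPGroup h2) hγ
    (Subgroup.subset_closure (by simp)) (inv_mem (Subgroup.subset_closure (show γ' ∈ _ by simp))))
  have h3 := (H.pow X.deg1 X.fa i).mul X.deg1 X.fa H'
  rw [show γ ^ i = _ from hi, inv_mul_cancel, mul_zero] at h3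
  exact ⟨i, X.mem_range h3⟩

theorem field_norm {a : Y} (ha : a ^ p = 1) {γ : M.Gr} {j : ℕ} (H : M.Ac ψ a γ j) (h : ∀ γ', ¬ M.Ac ψ a γ' 0) :
    ∃ (i : ℕ) (γ' : M.Gr) (j' : ℕ), M.Ac ψ (a ^ i) γ' j' ∧ M.f = p * j' := by
  have H' := H.mod
  have h1 := Nat.mod_lt j M.f_pos
  generalize j % M.f = j0 at H' h1
  have h2 : j0 ≠ 0 := fun e => h _ (e ▸ H')
  obtain ⟨t, ht⟩ := X.dvd_j ha H'
  have h3 : ¬ p ∣ t := by
    rintro ⟨w, rfl⟩
    rw [mul_left_comm] at ht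
    have h4 := Nat.eq_of_mul_eq_mul_left hp.out.pos ht
    rcases Nat.eq_zero_or_pos w with rfl | h5
    · exact h2 h4
    · exact (Nat.le_mul_of_pos_right M.f h5).not_gt (h4 ▸ h1)
  obtain ⟨j', hj'⟩ := ((hp.out.dvd_mul).1 (Dvd.intro _ ht)).resolve_right h3
  have h4 : j0 = j' * t := Nat.eq_of_mul_eq_mul_left hp.out.pos (by rw [ht, hj', mul_assoc])
  obtain ⟨i, -, hi⟩ := Nat.exists_mul_mod_eq_one_of_coprime ((hp.out.coprime_iff_not_dvd).2 h3).symm hp.out.one_lt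
  have h5 := (H'.pow X.deg1 X.fa i).mod
  have h6 : i * j0 % M.f = j' := by rw [h4, hj', mul_comm p, mul_left_comm, Nat.mul_mod_mul_left, mul_comm i, hi, mul_one]
  rw [h6] at h5
  exact ⟨i, _, j', h5, hj'⟩

theorem field_step {a b : Y} (hb : b ^ p = 1) {γ γ' : M.Gr} {j j' : ℕ} (H : M.Ac ψ a γ j) (hj : M.f = p * j)
    (H' : M.Ac ψ b γ' j') : ∃ (i : ℕ) (γ'' : M.Gr), M.Ac ψ (a ^ i * b) γ'' 0 := by
  have h1 := X.dvd_j hb H'
  rw [hj] at h1
  obtain ⟨t, rfl⟩ := Nat.dvd_of_mul_dvd_mul_left hp.out.pos h1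
  have h2 := ((H.pow X.deg1 X.fa ((p - 1) * t)).mul X.deg1 X.fa H').mod
  have h3 : (p - 1) * t * j + j * t = M.f * t := by
    rw [hj]
    conv_rhs => rw [← Nat.sub_add_cancel hp.out.pos]
    ring
  rw [h3, Nat.mul_mod_right] at h2
  exact ⟨_, _, h2⟩

theorem mv_pow {a : Y} {n : M.N ρ ψ} (h : X.mv a n = n) (i : ℕ) : X.mv (a ^ i) n = n := by
  rw [map_pow]; exact Equiv.Perm.pow_apply_eq_self_of_apply_eq_self h i

/-- **the outer theorem** -/
theorem main {A : Subgroup Y} (hA : Off p ρ A) (hmin : ∀ B < A, B ≠ ⊥ → Nat.card B ^ 2 < p ^ cod ρ B)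
    (hred : ∀ a ∈ A, ∃ γ j, M.Ac ψ a γ j) : Std.Inner p ρ ψ ∨ ¬ irrK ∧ Cub ρ A := by
  have := X.fd
  obtain ⟨r, hr0, hr, hcod⟩ := hA.exists_card
  have hap : ∀ a ∈ A, a ^ p = 1 := hA.1.2
  have hmin' : ∀ B < A, ∀ s, Nat.card B = p ^ s → 0 < s → 2 * s < cod ρ B := fun B hB s hs h0 => by
    have h1 := hmin B hB fun e => by
      rw [e, Subgroup.card_bot] at hs
      exact (Nat.one_lt_pow h0.ne' hp.out.one_lt).ne hs
    rwa [hs, ← pow_mul, Nat.pow_lt_pow_iff_right hp.out.one_lt, mul_comm] at h1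
  obtain ⟨B, hB, hB0, hBc, hBp, hBn⟩ := X.exists_lift (A := A ⊓ ψ.range) (elemAb_of_le hA.1 inf_le_left) fun a ha => by
    obtain ⟨γ, j, H⟩ := hred a ha.1
    exact X.mem_U (hap a ha.1) H ha.2
  have hBA : B.map ψ ≤ A := hB0 ▸ inf_le_left
  let A1 : Subgroup Y := finSub
    { carrier := {a | a ∈ A ∧ ∃ γ, M.Ac ψ a γ 0}
      one_mem' := ⟨one_mem _, 1, Std.ac_one⟩
      mul_mem' := fun ⟨ha, _, H⟩ ⟨hb, _, H'⟩ => ⟨mul_mem ha hb, _, H.mul X.deg1 X.fa H'⟩ }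
  have hA1 : A1 ≤ A := fun a ha => ha.1
  have h01 : A ⊓ ψ.range ≤ A1 := fun a ha => ⟨ha.1, 1, by
    obtain ⟨x, hx, rfl⟩ := hB0.ge ha
    exact Std.ac_of_U (hB hx)⟩
  have hγ : ∀ a ∈ A, a ∉ A ⊓ ψ.range → ∀ γ, M.Ac ψ a γ 0 → γ ≠ 1 := fun a ha h γ H e =>
    h ⟨ha, X.mem_range (e ▸ H)⟩
  have step : ∀ s, Nat.card A1 = p ^ s → A ⊓ ψ.range < A1 → ∃ s', s = s' + 1 ∧ Nat.card B = p ^ s' := fun s hs h => by
    obtain ⟨a, ⟨ha, γ, H⟩, h1⟩ := SetLike.exists_of_lt h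
    rw [hBn]
    refine card_step hs h (card_le_mul hp.out.pos (hap a ha) fun b ⟨hb, γ', H'⟩ => ?_)
    exact (X.graph_step (hap a ha) (hap b hb) (elemAb_comm hA.1 ha hb) H H' (hγ a ha h1 γ H)).imp
      fun i hi => ⟨mul_mem (pow_mem ha i) hb, hi⟩
  rcases hA1.eq_or_lt with h1 | h1
  · rcases (inf_le_left : A ⊓ ψ.range ≤ A).eq_or_lt with h2 | h2
    · exact Or.inl (X.inner hB hBc hr0 (by rw [hBn, h2, hr]) (by rwa [hB0, h2]))
    · obtain ⟨s, rfl, hs⟩ := step r (h1 ▸ hr) (h1 ▸ h2)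
      rcases X.stab_case hA.1 h2 hr (hBn ▸ hs) hcod (hmin' _ h2 s (hBn ▸ hs)) with h3 | ⟨a, ha, h3, n, hn⟩
      · exact Or.inl h3
      · obtain ⟨-, γ, H⟩ := h1.ge ha
        exact Or.inl (X.caseG hA.1 hB hBA hBc hBp hs hcod ha H (hγ a ha h3 γ H) n.2
          ((X.mv_eq H n).symm.trans (congrArg Subtype.val hn)))
  have norm : ∀ a ∈ A, a ∉ A1 → ∃ (i : ℕ) (γ : M.Gr) (j : ℕ), M.Ac ψ (a ^ i) γ j ∧ M.f = p * j ∧
      ∀ b ∈ A, ∃ i' : ℕ, (a ^ i) ^ i' * b ∈ A1 := fun a ha h => by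
    obtain ⟨γ, j, H⟩ := hred a ha
    obtain ⟨i, γ, j, H, hj⟩ := X.field_norm (hap a ha) H fun γ' H' => h ⟨ha, γ', H'⟩
    refine ⟨i, γ, j, H, hj, fun b hb => ?_⟩
    obtain ⟨γ', j', H'⟩ := hred b hb
    obtain ⟨i', h2⟩ := X.field_step (hap b hb) H hj H'
    exact ⟨i', mul_mem (pow_mem (pow_mem ha i) i') hb, h2⟩
  obtain ⟨s, rfl, hs⟩ : ∃ s, r = s + 1 ∧ Nat.card A1 = p ^ s := by
    obtain ⟨a, ha, h2⟩ := SetLike.exists_of_lt h1
    obtain ⟨i, -, -, -, -, h3⟩ := norm a ha h2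
    exact card_step hr h1 (card_le_mul hp.out.pos (hap _ (pow_mem ha i)) h3)
  rcases X.stab_case hA.1 h1 hr hs hcod (hmin' _ h1 s hs) with h3 | ⟨a, ha, h3, n, hn⟩
  · exact Or.inl h3
  obtain ⟨i, γ, j, H, hj, h4⟩ := norm a ha h3
  replace hn := X.mv_pow hn i
  replace ha := pow_mem ha i
  generalize a ^ i = a at H h4 hn ha
  have hfix : M.act γ j n.1 = n.1 := (X.mv_eq H n).symm.trans (congrArg Subtype.val hn)
  rcases h01.eq_or_lt with h5 | h5
  · obtain ⟨Sg, δ, c, F⟩ := X.field_data hA.1 hB hBA hBc (by rw [hBn, h5, hs]) ha H hj n.2 hfix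
    by_cases h2 : p = 2
    · by_cases hab : ∀ γ γ' : M.Gr, Commute γ γ'
      · refine (X.field_two F hj h2 (fun n' hn' => X.fix_all hab n.2 hfix hn') hcod).imp_right fun h => ⟨h.1, hA.cub ?_⟩
        rw [hr]
        refine Nat.pow_le_pow_right hp.out.pos ?_
        rw [h2, small_two]
        omega
      · push Not at hab
        exact (X.field_nonab F hj h2 hab (by omega)).elim
    · exact (X.field_odd F hj h2 (Or.inl hcod)).elim
  obtain ⟨s, rfl, hs'⟩ := step s hs h5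
  obtain ⟨Sg, δ, c, F⟩ := X.field_data hA.1 hB hBA hBc hs' ha H hj n.2 hfix
  by_cases h2 : p = 2
  swap
  · obtain ⟨g, ⟨hg, γ', H'⟩, h6⟩ := SetLike.exists_of_lt h5
    exact (X.field_odd F hj h2 (Or.inr ⟨hcod, γ', hγ g hg h6 γ' H'⟩)).elim
  by_cases hab : ∀ γ γ' : M.Gr, Commute γ γ'
  swap
  · push Not at hab
    exact (X.field_nonab F hj h2 hab hcod).elim
  let B' : Subgroup Y := finSub
    { carrier := {b | b ∈ A ∧ ∃ i : ℕ, a ^ i * b ∈ A ⊓ ψ.range}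
      one_mem' := ⟨one_mem _, 0, by rw [pow_zero, one_mul]; exact one_mem _⟩
      mul_mem' := fun {b b'} ⟨hb, i, h⟩ ⟨hb', i', h'⟩ => ⟨mul_mem hb hb', i + i', by
        have h7 := mul_mem h h'
        rwa [mul_assoc, ← mul_assoc b, elemAb_comm hA.1 hb (pow_mem ha i'), mul_assoc, ← mul_assoc, ← pow_add] at h7⟩ }
  have h6 : B' ≤ A := fun b hb => hb.1
  have h7 : A ⊓ ψ.range < B' := by
    refine lt_of_le_of_ne (fun b hb => ⟨hb.1, 0, by rwa [pow_zero, one_mul]⟩) fun e => ?_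
    have h7 : a ∈ B' := ⟨ha, p - 1, by rw [← pow_succ, Nat.sub_add_cancel hp.out.pos, hap a ha]; exact one_mem _⟩
    have hj0 := X.j_pos F hj
    refine hj0.ne' (X.triv_of_mem (hap a ha) H ?_ (e.ge h7).2).1
    rw [hj, h2]
    omega
  obtain ⟨m, -, hm⟩ := (Nat.dvd_prime_pow hp.out).1 (hr ▸ Subgroup.card_dvd_of_le h6)
  obtain ⟨s', rfl, h8⟩ := card_step hm h7 (card_le_mul hp.out.pos (hap a ha) fun b hb => hb.2)
  obtain rfl : s' = s := Nat.pow_right_injective hp.out.two_le (h8.symm.trans (hBn ▸ hs'))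
  have h9 : B' < A := lt_of_le_of_ne h6 fun e => by
    rw [e, hr] at hm
    have := Nat.pow_right_injective hp.out.two_le hm
    omega
  rcases X.stab_case hA.1 h9 hr hm hcod (hmin' _ h9 _ hm) with h3 | ⟨b, hb, h10, n', hn'⟩
  · exact Or.inl h3
  obtain ⟨i', hg, γ', H'⟩ := h4 b hb
  have h11 : X.mv (a ^ i' * b) n' = n' := by
    rw [map_mul, Equiv.Perm.mul_apply, hn']
    exact X.mv_pow (Subtype.ext ((X.mv_eq H n').trans (X.fix_all hab n.2 hfix n'.2))) i'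
  exact (X.field_graph F hj h2 (hγ _ hg (fun h => h10 ⟨hb, i', h⟩) γ' H') (X.pow_γ (hap _ hg) H') H'.comm
    (fun n'' hn'' => X.fix_all hab n'.2 ((X.mv_eq H' n').symm.trans (congrArg Subtype.val h11)) hn'') hcod hB hBc hs'
    (cod_mono hBA)).elim

end Ctx

/-- **TH4** -/
theorem boxRel_of (b1 : BoxHW) (b2 : BoxDeg1) (b3 : BoxDeg2) (b4 : BoxPow) (b5 : BoxSt) : BoxRel := by
  intro p _ ι Φ k G _ _ _ _ _ _ _ _ _ D T S _ _ _ M ok hM Y _ _ V _ _ _ K ρ hs he hok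
  obtain ⟨C⟩ := b1 p ι Φ k G D
  have hC := C.fa_of_full hM
  have h1 := b2 p ι Φ k G D
  obtain ⟨π, φ, F⟩ := hs.exists_frm he
  obtain ⟨ψ0, hψ0, hπ⟩ := M.cover K hs.qs hs.cop
    ((QuotientGroup.quotientMulEquivOfEq F.ker_π.symm).trans (QuotientGroup.quotientKerEquivOfSurjective π F.surj))
  replace hπ : ∀ s, π (ψ0 s) = M.π s := hπ
  have := hs.normal
  have h2 : ∀ y, ∃ s h γ j, M.Acts (K.subtype.comp ψ0) y s h γ j := fun y => by
    obtain ⟨s, h, γ, j, hh, hγ, H⟩ := hM.aut (φ y)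
    obtain ⟨β, hβ⟩ := M.exists_aut ((MulAut.conj h).toMonoidHom.comp (M.tw γ j))
      (fun t ht => M.tw_inj γ j ((map_eq_one_iff _ (MulAut.conj h).injective).1 ht))
      fun t => (H t).imp fun t' ht' => by rw [ht'.1, ← M.tw_apply]; rfl
    have h3 : (MulAut.conjNormal y).toMonoidHom.comp ψ0 = ψ0.comp (MulAut.conj s * β).toMonoidHom := by
      refine hom_eq_of_center M.perfect fun t => ?_
      obtain ⟨t', h3, h4⟩ := H t
      rw [← F.ker_π, MonoidHom.mem_ker, map_mul, map_inv, inv_mul_eq_one]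
      show π (MulAut.conjNormal y (ψ0 t)) = π (ψ0 (s * β t * s⁻¹))
      rw [← F.conj y (ψ0 t) _ rfl, hπ, hπ, h4, M.φ_inj (h3.trans (by rw [← M.tw_apply]; exact (hβ t).symm))]
    refine ⟨s, h, γ, j, Std.acts_of (β := fun t => s * β t * s⁻¹)
      (fun t => congrArg Subtype.val (DFunLike.congr_fun h3 t)) hh hγ fun t => ?_⟩
    rw [map_mul, map_mul, map_inv, hβ]
    rfl
  have key : ∀ A, Off p ρ A → (∃ B ≤ K, Off p ρ B ∧ Cub ρ B) ∨ ¬ Irr ρ K ∧ ∃ B, Off p ρ B ∧ Cub ρ B := by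
    intro A hA
    obtain ⟨A, -, hA, hmin⟩ := exists_min_off ((off_bc k A).2 hA)
    have : Nonempty Φ := by
      obtain ⟨l, -, h, -⟩ := hM.ex
      obtain ⟨i, -⟩ := Function.ne_iff.1 h
      exact ⟨D.zi i⟩
    obtain ⟨α, h3, h4⟩ := Std.exists_red h1 hC.fa h2 (elemAb_isPGroup hA.1)
    have h5 : Function.Surjective (ψ0.comp α.toMonoidHom) := hψ0.comp α.surjective
    have h6 : ((K.subtype.comp ψ0).comp α.toMonoidHom).range = K := by
      rw [MonoidHom.comp_assoc, MonoidHom.range_comp, MonoidHom.range_eq_top.2 h5, ← MonoidHom.range_eq_map,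
        Subgroup.range_subtype]
    have h7 := b5 p ι Φ k G D T S M C hC (b4 p ι Φ k G D T S M C) Y V K ρ hs _ h6
    have := hs.nontrivial
    have X : Ctx M ok C (bc k ρ) ((K.subtype.comp ψ0).comp α.toMonoidHom) (Irr ρ K) :=
      { full := hM
        deg1 := h1
        deg2 := b3 p ι Φ k G D hC.fa
        pow := b4 p ι Φ k G D T S M C
        st := h7
        okd := fun n hn h0 a ha => by
          obtain ⟨l, h8, h9⟩ := h7.occ n hn h0
          rw [← h9] at ha ⊢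
          exact (hok _ h5 l h8 a).resolve_left ha
        fd := inferInstance
        nt := Module.nontrivial_of_finrank_pos (R := k) (by rw [Module.finrank_baseChange]; exact finrank_pos)
        inj := bc_injective k hs.faithful
        acts := h3
        cent := fun y hy => by
          rw [h6]
          refine hs.cent fun x hx => ?_
          obtain ⟨s, rfl⟩ := h6.ge hx
          rw [← mul_inv_eq_iff_eq_mul.1 (hy s)] }
    rcases X.main hA hmin fun a ha => (h4 a ha).elim fun u h => h.2.imp fun γ h' => h'.imp fun j H => ⟨u, h.1, H⟩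
      with ⟨B, h8, h9, h10⟩ | ⟨h8, h9⟩
    · exact Or.inl ⟨B, h6 ▸ h8, (off_bc k B).1 h9, (cub_bc k B).1 h10⟩
    · exact Or.inr ⟨h8, A, (off_bc k A).1 hA, (cub_bc k A).1 h9⟩
  exact ⟨fun A hA => (key A hA).elim (fun ⟨B, _, h⟩ => ⟨B, h⟩) fun h => h.2,
    fun A hA hirr _ _ _ => (key A hA).elim (fun ⟨B, h, h', _⟩ => ⟨B, h, h'⟩) fun h => (h.1 hirr).elim⟩

end Cfsg.Agent.TwoF.DC
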