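import Cfsg.Agent.TwoF.DC.Asm.Ctx

/-!
# TwoF, defining characteristic, assembly (4): families, the construction of offenders, the inner theorem (helper85)
-/

set_option autoImplicit false
set_option linter.unusedSectionVars false
set_option linter.unusedVariables false

namespace Cfsg.Agent.TwoF.DC

open Module Finset Cfsg.Agent.H45.Uni Cfsg.Agent.H45.UniE Cfsg.Agent.TwoF.Gen

variable {p : ℕ} [hp : Fact p.Prime] {ι Φ k G : Type} [Fintype ι] [DecidableEq ι] [Fintype Φ] [DecidableEq Φ] [Field k]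
  [Infinite k] [CharP k p] [Group G] {D : RDat p ι Φ k G} {T S : Type} [Group T] [Finite T] [Group S]
  {Y U : Type} [Group Y] [Finite Y] [AddCommGroup U] [Module k U]

namespace Std

variable (M : Std D T S)

theorem goodT_of_good (h1 : Deg1 D) (hF : D.Fa) {F : Fam D (M.gι M.σ)} (h : F.Good (M.gΦ M.σ)) : F.GoodT M.φ M.f := by
  obtain ⟨Sg, hne, hσ, hc, hcub, hquad, hval⟩ := h
  obtain ⟨B, hB1, hB2, hB3⟩ := h1.sub hF _ _ _ _ (M.tw_Tw M.σ M.f) M.f_pos Sg hσ hc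
  have hU : Subgroup.closure {g | ∃ b ∈ Sg, ∃ t, g = D.z b t} ≤ D.U :=
    Subgroup.closure_mono (by rintro _ ⟨b, -, t, rfl⟩; exact ⟨b, t, rfl⟩)
  have hmap : (B.comap M.φ).map M.φ = B := by
    refine Subgroup.map_comap_eq_self fun x hx => ?_
    obtain ⟨u, -, e⟩ := M.exists_of_fix h1 hF (hU (hB1 hx)) (hB2 x hx)
    exact ⟨u, e⟩
  have hel : IsElementaryAbelian p B := elemAb_of_le (elemAb_closure
    (by rintro _ ⟨b, hb, t, rfl⟩ _ ⟨b', hb', t', rfl⟩; exact hc b hb b' hb' t t')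
    (by rintro _ ⟨b, hb, t, rfl⟩; exact D.z_pow b t)) hB1
  have hcard : Nat.card (B.comap M.φ) = p ^ (M.f * Sg.card) := by
    rw [← hB3, ← Subgroup.card_map_of_injective M.φ_inj, hmap]
  refine ⟨B.comap M.φ, elemAb_of (fun a ha b hb => M.φ_inj ?_) (fun a ha => M.φ_inj ?_), fun e => ?_, fun j hj => ?_,
    fun j hj a ha b hb => ?_, ?_⟩
  · rw [map_mul, map_mul]; exact elemAb_comm hel ha hb
  · rw [map_pow, map_one]; exact hel.2 _ ha
  · rw [e, Subgroup.card_bot] at hcard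
    exact (Nat.one_lt_pow (Nat.mul_pos M.f_pos hne.card_pos).ne' hp.out.one_lt).ne hcard
  · rw [hmap]; exact ((F.rep j).cub (hcub j hj)).mono hB1
  · exact (F.rep j).quad (hquad j hj) (hB1 ha) (hB1 hb)
  · rw [hmap, hcard, ← pow_mul, ← pow_mul, mul_assoc]
    refine Nat.pow_le_pow_right hp.out.pos (Nat.mul_le_mul_left _ (le_trans ?_ (hval.trans (mul_comm _ _).le)))
    refine Finset.sum_le_sum fun j _ => ?_
    have h2 := (F.rep j).cod_le_cG hB1
    split_ifs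
    · exact Num.mul_two_sub_mono h2 ((F.H j).cG_le_d _)
    · omega

variable (ρ : Representation k Y U) (ψ : T →* Y)

/-- the first position -/
def z0 : Fin M.f := ⟨0, M.f_pos⟩

open Classical in
/-- the patterns with nonzero first digit -/
noncomputable def NB : Finset (Fin M.f → ι → ℕ) := (M.N ρ ψ).filter fun n => n M.z0 ≠ 0

theorem mem_NB {n : Fin M.f → ι → ℕ} : n ∈ M.NB ρ ψ ↔ n ∈ M.N ρ ψ ∧ n M.z0 ≠ 0 := by rw [NB, Finset.mem_filter]

/-- the index set of the family -/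
abbrev JB : Type := Σ n : M.NB ρ ψ, Fin (M.mult (ρ.comp ψ) n.1)

theorem sum_JB (w : (Fin M.f → ι → ℕ) → ℕ) : ∑ j : M.JB ρ ψ, w j.1.1 = ∑ n ∈ M.NB ρ ψ, M.mult (ρ.comp ψ) n * w n := by
  rw [Fintype.sum_sigma, ← Finset.sum_coe_sort (M.NB ρ ψ) fun n => M.mult (ρ.comp ψ) n * w n]
  refine Finset.sum_congr rfl fun n _ => ?_
  show ∑ _i : Fin _, w n.1 = _
  rw [Finset.sum_const, Finset.card_univ, Fintype.card_fin, smul_eq_mul]

theorem sum_JB' (μ : (Fin M.f → ι → ℕ) → ℕ) (ω : (ι → ℕ) → ℕ) :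
    ∑ j : M.JB ρ ψ, μ j.1.1 * ω (j.1.1 M.z0) = M.Wb (M.N ρ ψ) (fun n => M.mult (ρ.comp ψ) n * μ n) ω M.z0 := by
  rw [M.sum_JB ρ ψ fun n => μ n * ω (n M.z0), Wb]
  exact Finset.sum_congr (by ext n; rw [mem_NB, Finset.mem_filter]) fun n _ => (mul_assoc _ _ _).symm

theorem act_z0 (n : Fin M.f → ι → ℕ) (a : Fin M.f) : M.act 1 a n M.z0 = n a := by
  rw [M.act_one_apply n (by simp [z0])]
  congr 1
  exact Fin.ext (by simp [z0])

/-- a pattern `L ⊗ L ^ q0` -/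
def Dbl (n : Fin M.f → ι → ℕ) : Prop := ∃ a a', a ≠ a' ∧ M.supp n = {a, a'} ∧ n a' = n a

theorem Dbl.card {n : Fin M.f → ι → ℕ} (h : M.Dbl n) : (M.supp n).card = 2 := by
  obtain ⟨a, a', h1, h2, -⟩ := h
  rw [h2, Finset.card_pair h1]

theorem dbl_of_act {n : Fin M.f → ι → ℕ} (h2 : (M.supp n).card = 2) {w : ℕ} (h0 : 0 < w) (hw : w < M.f)
    (h : M.act 1 w n = n) : M.Dbl n ∧ ∀ a, n a ∘ (M.gι M.σ).symm = n a := by
  classical
  have key : ∀ a a' : Fin M.f, a < a' → M.supp n = {a, a'} → M.Dbl n ∧ ∀ a, n a ∘ (M.gι M.σ).symm = n a := by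
    intro a a' hlt hs
    have hlt' : (a : ℕ) < a' := hlt
    have h3 : ∀ x ∈ M.supp n, (x + w) % M.f = a ∨ (x + w) % M.f = a' := fun x hx => by
      have h4 : M.rot w x ∈ M.supp n := M.mem_supp_act.1 (h.symm ▸ hx)
      rw [hs, Finset.mem_insert, Finset.mem_singleton] at h4
      exact h4.imp (congrArg Fin.val) (congrArg Fin.val)
    have h5 := h3 a (by rw [hs]; simp)
    have h6 := h3 a' (by rw [hs]; simp)
    have ha := a.2
    have ha' := a'.2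
    have h7 : a + w = a' := by
      rcases Nat.lt_or_ge (a + w) M.f with h8 | h8
      · rw [Nat.mod_eq_of_lt h8] at h5; omega
      · rw [Nat.mod_eq_sub_mod h8, Nat.mod_eq_of_lt (by omega)] at h5; omega
    have h9 : a' + w = a + M.f * 1 := by
      rcases Nat.lt_or_ge (a' + w) M.f with h8 | h8
      · rw [Nat.mod_eq_of_lt h8] at h6; omega
      · rw [Nat.mod_eq_sub_mod h8, Nat.mod_eq_of_lt (by omega)] at h6; omega
    have h10 : n a' = n a := by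
      have := congrFun h a
      rw [M.act_one_apply n (by omega)] at this
      rw [← this]
      congr 1
      exact Fin.ext h7.symm
    have h11 : n a ∘ M.gι M.σ = n a := by
      have := congrFun h a'
      rwa [act_apply, h9, ext_add_mul, ext_val, inv_one, comp_gι_one, pow_one, h10] at this
    have h12 : n a ∘ (M.gι M.σ).symm = n a := by
      conv_lhs => rw [← h11, gι_symm, ← comp_gι_mul, mul_inv_cancel, comp_gι_one]
    refine ⟨⟨a, a', hlt.ne, hs, h10⟩, fun x => ?_⟩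
    by_cases hx : x ∈ M.supp n
    · rw [hs, Finset.mem_insert, Finset.mem_singleton] at hx
      rcases hx with rfl | rfl
      · exact h12
      · rw [h10, h12]
    · rw [mem_supp, not_not] at hx
      rw [hx]; rfl
  obtain ⟨a, a', hne, hs⟩ := Finset.card_eq_two.1 h2
  rcases lt_or_gt_of_ne hne with h1 | h1
  · exact key a a' h1 hs
  · exact key a' a h1 (by rw [hs, Finset.pair_comm])

end Std

namespace Ctx

variable {M : Std D T S} {ok : (ι → ℕ) → Prop} {C : Can D} {ρ : Representation k Y U} {ψ : T →* Y} {irrK : Prop}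
  (X : Ctx M ok C ρ ψ irrK)

include X

theorem exists_j {n : Fin M.f → ι → ℕ} (hn : n ∈ M.N ρ ψ) {a : Fin M.f} (ha : n a ≠ 0) :
    ∃ j : M.JB ρ ψ, j.1.1 = M.act 1 a n :=
  ⟨⟨⟨M.act 1 a n, (M.mem_NB ρ ψ).2 ⟨X.sh.act a hn, by rwa [M.act_z0]⟩⟩, ⟨0, X.one_le_mult (X.sh.act a hn)⟩⟩, rfl⟩

theorem neJ : Nonempty (M.JB ρ ψ) := by
  obtain ⟨n, hn⟩ := X.N_nonempty
  obtain ⟨a, ha⟩ := Function.ne_iff.1 (X.ne_zero hn)
  exact ⟨(X.exists_j hn ha).choose⟩

omit X in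
theorem jN (j : M.JB ρ ψ) : j.1.1 ∈ M.N ρ ψ := ((M.mem_NB ρ ψ).1 j.1.2).1

omit X in
theorem j0 (j : M.JB ρ ψ) : j.1.1 M.z0 ≠ 0 := ((M.mem_NB ρ ψ).1 j.1.2).2

/-- the modules of the family -/
noncomputable def HJ (j : M.JB ρ ψ) : HW D.R p k (Lc D (j.1.1 M.z0)) := C.H _ (X.res (jN j) _) (j0 j)

/-- the actions on the modules of the family -/
noncomputable def repJ (j : M.JB ρ ψ) : (X.HJ j).Rep D := C.rep _ (X.res (jN j) _) (j0 j)

theorem lamJ (j : M.JB ρ ψ) : (X.HJ j).lam = j.1.1 M.z0 := C.lam _ _ _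

theorem ρJ (j : M.JB ρ ψ) : (X.repJ j).ρ = ρc D (j.1.1 M.z0) := C.ρ_eq _ _ _

theorem okJ (j : M.JB ρ ψ) : ok (X.HJ j).lam := by rw [lamJ]; exact X.okN (jN j) (j0 j)

/-- the family -/
noncomputable def fam (dbl : M.JB ρ ψ → Bool) (π : Equiv.Perm (M.JB ρ ψ))
    (h1 : ∀ j, (X.HJ (π j)).lam = (X.HJ j).lam ∘ (M.gι M.σ).symm) (h2 : ∀ j, dbl (π j) = dbl j)
    (h3 : ∀ j, dbl j = true → (X.HJ j).lam ∘ (M.gι M.σ).symm = (X.HJ j).lam) : Fam D (M.gι M.σ) :=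
  haveI := X.neJ
  ⟨M.JB ρ ψ, fun j => Lc D (j.1.1 M.z0), X.HJ, X.repJ, dbl, π, h1, h2, h3⟩

omit X in
theorem exists_perm_sigma {α : Type} [Finite α] (m : α → ℕ) (e : α → α) (he : Function.Injective e)
    (hm : ∀ a, m (e a) = m a) : ∃ π : Equiv.Perm (Σ a, Fin (m a)), ∀ j, (π j).1 = e j.1 :=
  ⟨Equiv.sigmaCongr (Equiv.ofBijective e (Finite.injective_iff_bijective.1 he)) fun a => finCongr (hm a).symm,
    fun _ => rfl⟩

theorem exists_πσ : ∃ π : Equiv.Perm (M.JB ρ ψ), ∀ j, (π j).1.1 = M.act M.σ 0 j.1.1 := by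
  obtain ⟨π, hπ⟩ := exists_perm_sigma (α := M.NB ρ ψ) (fun n => M.mult (ρ.comp ψ) n.1)
    (fun n => ⟨M.act M.σ 0 n.1, (M.mem_NB ρ ψ).2 ⟨X.σ_mem ((M.mem_NB ρ ψ).1 n.2).1, by
      rw [Ne, M.act_eq_zero, add_zero, M.pos_val]; exact ((M.mem_NB ρ ψ).1 n.2).2⟩⟩)
    (fun a b e => Subtype.ext (M.act_inj (Commute.refl _) 0 (congrArg Subtype.val e)))
    fun n => X.mult_σ ((M.mem_N ρ ψ).1 ((M.mem_NB ρ ψ).1 n.2).1).1
  exact ⟨π, fun j => congrArg Subtype.val (hπ j)⟩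

/-- the permutation of the family -/
noncomputable def πσ : Equiv.Perm (M.JB ρ ψ) := X.exists_πσ.choose

theorem πσ_fst (j : M.JB ρ ψ) : (X.πσ j).1.1 = M.act M.σ 0 j.1.1 := X.exists_πσ.choose_spec j

theorem lam_πσ (j : M.JB ρ ψ) : (X.HJ (X.πσ j)).lam = (X.HJ j).lam ∘ (M.gι M.σ).symm := by
  rw [lamJ, lamJ, πσ_fst, M.act_zero_apply]

/-- sums over the family and sums over all patterns -/
theorem sum_pos (μ : (Fin M.f → ι → ℕ) → ℕ) (hμ : ∀ n ∈ M.N ρ ψ, ∀ j, μ (M.act 1 j n) = μ n)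
    (ω : Fin M.f → (ι → ℕ) → ℕ) (A : Finset (Fin M.f)) :
    ∑ b ∈ A, ∑ j : M.JB ρ ψ, μ j.1.1 * ω b (j.1.1 M.z0) =
      ∑ n ∈ M.N ρ ψ, M.mult (ρ.comp ψ) n * (μ n * ∑ b ∈ M.supp n ∩ A, ω b (n b)) := by
  simp only [M.sum_JB', ← mul_assoc]
  rw [← M.sum_Wb]
  exact Finset.sum_congr rfl fun b _ => (X.sh.Wb_eq (fun n hn j => by rw [X.mult_actN hn, hμ n hn]) _ b).symm

theorem sum_two (ω1 ω2 : Fin M.f → (ι → ℕ) → ℕ) :
    ∑ b, ∑ j : M.JB ρ ψ, (if (M.supp j.1.1).card = 2 then ω2 b (j.1.1 M.z0) else ω1 b (j.1.1 M.z0)) =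
      ∑ n ∈ M.N ρ ψ, M.mult (ρ.comp ψ) n *
        if (M.supp n).card = 2 then ∑ b ∈ M.supp n, ω2 b (n b) else ∑ b ∈ M.supp n, ω1 b (n b) := by
  have h1 := X.sum_pos (fun n => if (M.supp n).card = 2 then 0 else 1) (fun n _ j => by rw [M.card_supp_act]) ω1 univ
  have h2 := X.sum_pos (fun n => if (M.supp n).card = 2 then 1 else 0) (fun n _ j => by rw [M.card_supp_act]) ω2 univ
  simp only [Finset.inter_univ] at h1 h2
  calc _ = ∑ b, ∑ j : M.JB ρ ψ, (if (M.supp j.1.1).card = 2 then 0 else 1) * ω1 b (j.1.1 M.z0) +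
      ∑ b, ∑ j : M.JB ρ ψ, (if (M.supp j.1.1).card = 2 then 1 else 0) * ω2 b (j.1.1 M.z0) := by
        rw [← Finset.sum_add_distrib]
        refine Finset.sum_congr rfl fun b _ => ?_
        rw [← Finset.sum_add_distrib]
        refine Finset.sum_congr rfl fun j _ => ?_
        split_ifs <;> simp
    _ = _ := by
      rw [h1, h2, ← Finset.sum_add_distrib]
      refine Finset.sum_congr rfl fun n _ => ?_
      split_ifs <;> simp

theorem cub_of {B : Subgroup T} (h : ∀ n ∈ M.N ρ ψ, Cub (M.ρW n) B) : Cub ρ (B.map ψ) := by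
  rintro _ ⟨a, ha, rfl⟩ _ ⟨b, hb, rfl⟩ _ ⟨c, hc, rfl⟩
  rw [← LinearMap.ker_eq_top, eq_top_iff, ← X.span]
  refine iSup₂_le fun n hn => ?_
  rw [M.V_eq ρ ψ ((M.mem_N ρ ψ).1 hn).1]
  refine iSup₂_le fun θ hθ => ?_
  rintro _ ⟨F, rfl⟩
  have h1 : ∀ (s : T) (F : M.Wc n), (ρ (ψ s) - 1) (θ F) = θ ((M.ρW n s - 1) F) := fun s F => by
    rw [LinearMap.sub_apply, LinearMap.sub_apply, map_sub, hθ s F]; rfl
  have h2 := DFunLike.congr_fun (h n hn a ha b hb c hc) F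
  rw [LinearMap.mem_ker, Module.End.mul_apply, Module.End.mul_apply, h1, h1, h1]
  rw [Module.End.mul_apply, Module.End.mul_apply] at h2
  rw [h2]
  exact map_zero θ

theorem fd_Lc {n : Fin M.f → ι → ℕ} (hn : n ∈ M.N ρ ψ) {a : Fin M.f} (ha : n a ≠ 0) :
    FiniteDimensional k (Lc D (n a)) := (C.H _ (X.res hn a) ha).fd

theorem single {n : Fin M.f → ι → ℕ} (hn : n ∈ M.N ρ ψ) {a : Fin M.f} (ha : M.supp n = {a}) (B : Subgroup T) :
    M.Dn n = dd D (n a) ∧ finrank k (M.fxW n B) = finrank k (fx (ρc D (n a)) (B.map M.φ)) := by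
  refine ⟨by rw [M.Dn_eq, ha, Finset.prod_singleton], ?_⟩
  have h := (X.pow.single a (n a) (X.res hn a) B).1
  rwa [← M.eq_single ha] at h

/-- **the construction of an offender** -/
theorem upper {dbl : M.JB ρ ψ → Bool} {π : Equiv.Perm (M.JB ρ ψ)}
    {h1 : ∀ j, (X.HJ (π j)).lam = (X.HJ j).lam ∘ (M.gι M.σ).symm} {h2 : ∀ j, dbl (π j) = dbl j}
    {h3 : ∀ j, dbl j = true → (X.HJ j).lam ∘ (M.gι M.σ).symm = (X.HJ j).lam}
    (hs : ∀ n ∈ M.N ρ ψ, (M.supp n).card = 1 ∨ M.Dbl n) (hd : ∀ j, dbl j = true ↔ (M.supp j.1.1).card = 2)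
    (hQ : M.Q (X.fam dbl π h1 h2 h3)) : Std.Inner p ρ ψ := by
  obtain ⟨B, hB, hB1, hcub, hquad, hval⟩ := hQ.elim (M.goodT_of_good X.deg1 X.fa) id
  have hcard := Red.card_map_of_ker X.ker (elemAb_isPGroup hB)
  refine ⟨B.map ψ, Subgroup.map_le_range _ _, ⟨elemAb_map hB _, fun e => hB1 ?_, ?_⟩, X.cub_of fun n hn => ?_⟩
  · rw [e, Subgroup.card_bot] at hcard
    exact Subgroup.card_eq_one.1 hcard.symm
  · let c : (ι → ℕ) → ℕ := fun ν => cod (ρc D ν) (B.map M.φ)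
    have h4 := X.sum_two (fun _ ν => 2 * c ν) (fun _ ν => c ν * (2 * dd D ν - c ν))
    have h5 : (X.fam dbl π h1 h2 h3).valB (B.map M.φ) = ∑ j : M.JB ρ ψ, if (M.supp j.1.1).card = 2 then
        c (j.1.1 M.z0) * (2 * dd D (j.1.1 M.z0) - c (j.1.1 M.z0)) else 2 * c (j.1.1 M.z0) := by
      refine Finset.sum_congr rfl fun (j : M.JB ρ ψ) _ => ?_
      show (if dbl j = true then cod (X.repJ j).ρ _ * (2 * dd D _ - cod (X.repJ j).ρ _) else 2 * cod (X.repJ j).ρ _) = _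
      rw [X.ρJ]
      exact if_congr (hd j) rfl rfl
    rw [Finset.sum_const, Finset.card_univ, Fintype.card_fin, smul_eq_mul, ← h5] at h4
    have h6 : 2 * cod ρ (B.map ψ) ≤ M.f * (X.fam dbl π h1 h2 h3).valB (B.map M.φ) := by
      rw [h4]
      refine (Nat.mul_le_mul_left 2 (X.cod_le_sum B)).trans ?_
      rw [Finset.mul_sum]
      refine Finset.sum_le_sum fun n hn => ?_
      rw [mul_left_comm]
      refine Nat.mul_le_mul_left _ ?_
      rcases hs n hn with h | h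
      · obtain ⟨a, ha⟩ := Finset.card_eq_one.1 h
        obtain ⟨h7, h8⟩ := X.single hn ha B
        rw [if_neg (by omega), ha, Finset.sum_singleton, h7, h8]
        rfl
      · rw [if_pos h.card]
        obtain ⟨a, a', hne, ha, he⟩ := h
        have h0 : n a ≠ 0 := M.mem_supp.1 (by rw [ha]; simp)
        have := X.fd_Lc hn h0
        have h7 := (X.pow.double a a' hne (n a) (X.res hn a) B).1
        have h8 := M.eq_double hne ha
        rw [he] at h8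
        rw [← h8] at h7
        have h9 := Num.mul_two_sub_add (cod_add (ρ := ρc D (n a)) (B.map M.φ))
        rw [ha, Finset.sum_pair hne, he, M.Dn_eq, ha, Finset.prod_pair hne, he, ← sq]
        have h10 : dd D (n a) = finrank k (Lc D (n a)) := rfl
        show _ ≤ cod _ _ * (_ - cod _ _) + cod _ _ * (_ - cod _ _)
        rw [h10]
        omega
    rw [hcard, ← Nat.pow_le_pow_iff_left two_ne_zero, ← pow_mul, ← pow_mul]
    refine le_trans ?_ hval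
    rw [← pow_mul, mul_comm]
    exact Nat.pow_le_pow_right hp.out.pos h6
  · rcases hs n hn with h | h
    · obtain ⟨a, ha⟩ := Finset.card_eq_one.1 h
      obtain ⟨j, hj⟩ := X.exists_j hn (a := a) (M.mem_supp.1 (by rw [ha]; simp))
      have h4 : Cub (X.repJ j).ρ (B.map M.φ) := hcub j (by
        rw [← Bool.not_eq_true]
        show ¬ dbl j = true
        rw [hd, hj, M.card_supp_act, h]; omega)
      rw [X.ρJ] at h4
      have h5 : j.1.1 M.z0 = n a := by rw [hj, M.act_z0]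
      rw [h5] at h4
      have h6 := (X.pow.single a (n a) (X.res hn a) B).2.1 h4
      rwa [← M.eq_single ha] at h6
    · have hc2 := h.card
      obtain ⟨a, a', hne, ha, he⟩ := h
      obtain ⟨j, hj⟩ := X.exists_j hn (a := a) (M.mem_supp.1 (by rw [ha]; simp))
      have h4 : ∀ x ∈ B, ∀ y ∈ B, ((X.repJ j).ρ (M.φ x) - 1) * ((X.repJ j).ρ (M.φ y) - 1) = 0 :=
        hquad j ((hd j).2 (by rw [hj, M.card_supp_act, hc2]))
      rw [X.ρJ] at h4
      have h5 : j.1.1 M.z0 = n a := by rw [hj, M.act_z0]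
      rw [h5] at h4
      have h6 := (X.pow.double a a' hne (n a) (X.res hn a) B).2 h4
      have h8 := M.eq_double hne ha
      rw [he] at h8
      rwa [← h8] at h6

theorem ld_fix {B : Subgroup T} (hB : B ≤ M.E.U) {γ : M.Gr} {j : ℕ} {u : T} (hu : u ∈ M.E.U)
    (h : ∀ x ∈ B, M.φ u * M.tw γ j (M.φ x) * (M.φ u)⁻¹ = M.φ x) {v : Φ → k}
    (hv : ∃ x ∈ B.map M.φ, ∃ e, D.Lead x e v) (b : Φ) : v (M.gΦ γ b) = M.ε γ b * v b ^ p ^ j := by
  obtain ⟨_, ⟨x, hx, rfl⟩, e, hv⟩ := hv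
  exact X.deg1.fix X.fa _ _ _ _ (M.tw_Tw γ j) _ (M.φ_U hu) _ (M.φ_U (hB hx)) (h x hx) e v hv b

theorem ld_com {B : Subgroup T} (hB : B ≤ M.E.U) (hc : ∀ x ∈ B, ∀ y ∈ B, x * y = y * x) : D.Com (D.ld (B.map M.φ)) :=
  X.deg1.com _ (M.map_U_le hB) (by
    rintro _ ⟨x, hx, rfl⟩ _ ⟨y, hy, rfl⟩
    rw [← map_mul, ← map_mul, hc x hx y hy])

theorem le_ld {B : Subgroup T} (hB : B ≤ M.E.U) {r : ℕ} (hr : Nat.card B = p ^ r) :
    r ≤ M.f * finrank k (D.ld (B.map M.φ)) := by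
  have h := M.card_le_ld X.deg1 X.fa hB
  rwa [hr, Nat.pow_le_pow_iff_right hp.out.one_lt] at h

theorem fx_le_kerOp {B : Subgroup T} (hB : B ≤ M.E.U) (ν : ι → ℕ) (h : ∀ i, ν i < p) (h0 : ν ≠ 0) :
    finrank k (fx (ρc D ν) (B.map M.φ)) ≤ finrank k ((C.H ν h h0).kerOp (D.ld (B.map M.φ))) := by
  have h1 := X.deg1.ker _ (C.H ν h h0) (C.rep ν h h0) _ (M.map_U_le hB) 1 (C.H ν h h0).lev_one 1 (one_mem _)
  have h2 : LinearMap.ker ((1 : Module.End k (Lc D ν)) - 1) = ⊤ :=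
    LinearMap.ker_eq_top.2 (sub_self (1 : Module.End k (Lc D ν)))
  rwa [map_one, mul_one, h2, inf_top_eq, inf_top_eq, C.ρ_eq] at h1

/-- the first degeneration, for one factor -/
theorem flex {B : Subgroup T} (hB : B ≤ M.E.U) (hc : ∀ x ∈ B, ∀ y ∈ B, x * y = y * x) {r : ℕ} (hr0 : 0 < r)
    (hr : Nat.card B = p ^ r) (hcod : cod ρ (B.map ψ) ≤ 2 * r) {dbl : M.JB ρ ψ → Bool} {π : Equiv.Perm (M.JB ρ ψ)}
    {h1 : ∀ j, (X.HJ (π j)).lam = (X.HJ j).lam ∘ (M.gι M.σ).symm} {h2 : ∀ j, dbl (π j) = dbl j}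
    {h3 : ∀ j, dbl j = true → (X.HJ j).lam ∘ (M.gι M.σ).symm = (X.HJ j).lam}
    (hs : ∀ n ∈ M.N ρ ψ, (M.supp n).card = 1) (hσ : M.gΦ M.σ * M.gΦ M.σ = 1) :
    (X.fam dbl π h1 h2 h3).Flex (M.gΦ M.σ) := by
  classical
  obtain ⟨Sg, O, c, h4, h5, h6, h7⟩ := X.deg2.flex _ _ (M.sym M.σ) hσ (M.ε M.σ) M.f _ (X.ld_com hB hc)
    (Submodule.span_le.2 fun v hv => Submodule.subset_span ⟨Submodule.subset_span hv,
      X.ld_fix hB (one_mem _) (fun x _ => by rw [map_one, one_mul, inv_one, mul_one, M.tw_φ]) hv⟩)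
  have h8 := X.le_ld hB hr
  rw [← h6] at h8
  refine ⟨Sg, O, c, h4, h5, ?_, fun j => (h7 _ (X.HJ j) (X.repJ j)).1, ?_⟩
  · rw [← Finset.card_pos, Finset.card_union_of_disjoint (Finset.disjoint_right.2 fun o ho => (h5 o ho).1)]
    by_contra h9
    rw [Nat.eq_zero_of_not_pos h9] at h8
    omega
  · let κ : (ι → ℕ) → ℕ := fun ν => if h : (∀ i, ν i < p) ∧ ν ≠ 0 then finrank k ↥((C.H ν h.1 h.2).kerL Sg ⊓
      ⨅ o ∈ O, LinearMap.ker ((C.H ν h.1 h.2).E (true, o) 1 + c o • (C.H ν h.1 h.2).E (true, M.gΦ M.σ o) 1)) else 0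
    have h9 := X.sum_pos (fun _ => 1) (fun _ _ _ => rfl) (fun _ ν => dd D ν - κ ν) univ
    rw [Finset.sum_const, Finset.card_univ, Fintype.card_fin, smul_eq_mul] at h9
    have h10 : M.f * ∑ j : M.JB ρ ψ, 1 * (dd D (j.1.1 M.z0) - κ (j.1.1 M.z0)) ≤ cod ρ (B.map ψ) := by
      rw [h9]
      refine le_trans (Finset.sum_le_sum fun n hn => Nat.mul_le_mul_left _ ?_) (X.sum_le_cod_inner le_rfl B)
      obtain ⟨a, ha⟩ := Finset.card_eq_one.1 (hs n hn)
      have h0 : n a ≠ 0 := M.mem_supp.1 (by rw [ha]; simp)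
      obtain ⟨h11, h12⟩ := X.single hn ha B
      rw [Finset.inter_univ, ha, Finset.sum_singleton, one_mul, h11, h12]
      refine Nat.sub_le_sub_left ((X.fx_le_kerOp hB _ (X.res hn a) h0).trans ?_) _
      exact (h7 _ _ (C.rep _ (X.res hn a) h0)).2.trans (dif_pos ⟨X.res hn a, h0⟩ : κ (n a) = _).ge
    have h11 : ∑ j : M.JB ρ ψ, 2 * (dd D (j.1.1 M.z0) - κ (j.1.1 M.z0)) ≤ 4 * (Sg.card + O.card) := by
      rw [← Finset.mul_sum]
      simp only [one_mul] at h10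
      have h12 : M.f * ∑ j : M.JB ρ ψ, (dd D (j.1.1 M.z0) - κ (j.1.1 M.z0)) ≤ M.f * (2 * (Sg.card + O.card)) := by
        rw [mul_left_comm]; omega
      have := Nat.le_of_mul_le_mul_left h12 M.f_pos
      omega
    refine le_trans (le_of_eq (Finset.sum_congr rfl fun (j : M.JB ρ ψ) _ => ?_)) h11
    have h12 : κ (j.1.1 M.z0) = _ := dif_pos ⟨X.res (jN j) _, j0 j⟩
    rw [h12]
    rfl

/-- **the inner theorem** -/
theorem inner {B : Subgroup T} (hB : B ≤ M.E.U) (hc : ∀ x ∈ B, ∀ y ∈ B, x * y = y * x) {r : ℕ} (hr0 : 0 < r)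
    (hr : Nat.card B = p ^ r) (hcod : cod ρ (B.map ψ) ≤ 2 * r) : Std.Inner p ρ ψ := by
  classical
  have h2 : ∀ n ∈ M.N ρ ψ, (M.supp n).card = 2 → M.Dbl n ∧ ∀ a, n a ∘ (M.gι M.σ).symm = n a := fun n hn h => by
    obtain ⟨w, h1, h2, h3⟩ := X.two hB hc hr0 hr hcod hn h
    exact M.dbl_of_act h h1 h2 h3
  have hs : ∀ n ∈ M.N ρ ψ, (M.supp n).card = 1 ∨ M.Dbl n := fun n hn => by
    have h3 := X.three hB hc hr0 hr hcod hn
    have h4 := X.supp_pos hn
    by_cases h : (M.supp n).card = 2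
    · exact Or.inr (h2 n hn h).1
    · exact Or.inl (by omega)
  let F := X.fam (fun j => decide ((M.supp j.1.1).card = 2)) X.πσ X.lam_πσ
    (fun j => by simp only [X.πσ_fst, M.card_supp_act])
    (fun j hj => by rw [X.lamJ]; exact (h2 _ (jN j) (of_decide_eq_true hj)).2 _)
  obtain ⟨Sg, h3, h4, h5⟩ := X.exists_Sg hB hc hr
  have h6 : ∑ b, F.val (Sg b) ≤ 2 * cod ρ (B.map ψ) := by
    have h7 := X.sum_two (fun b ν => 2 * (dd D ν - C.u ν (Sg b)))
      (fun b ν => (dd D ν - C.u ν (Sg b)) * (2 * dd D ν - (dd D ν - C.u ν (Sg b))))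
    refine le_trans (le_of_eq (Eq.trans (Finset.sum_congr rfl fun b _ =>
      Finset.sum_congr rfl fun (j : M.JB ρ ψ) _ => ?_) h7)) ?_
    · have h8 : (X.HJ j).cL (Sg b) = dd D (j.1.1 M.z0) - C.u (j.1.1 M.z0) (Sg b) :=
        Nat.eq_sub_of_add_eq (C.cL_add_u _ (X.res (jN j) _) (j0 j) _)
      show (if decide ((M.supp j.1.1).card = 2) = true then (X.HJ j).cL _ * (2 * dd D _ - (X.HJ j).cL _)
        else 2 * (X.HJ j).cL _) = _
      rw [h8]
      exact if_congr decide_eq_true_iff rfl rfl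
    · refine le_trans ?_ (Nat.mul_le_mul_left 2 (X.sum_le_cod_inner le_rfl B))
      rw [Finset.mul_sum]
      refine Finset.sum_le_sum fun n hn => ?_
      rw [mul_left_comm]
      refine Nat.mul_le_mul_left _ ?_
      have h8 := h5 n ((M.mem_N ρ ψ).1 hn).1
      rw [M.prod_supp (fun a ν => C.u ν (Sg a)) fun a => C.u_zero _] at h8
      rcases hs n hn with h | h
      · obtain ⟨a, ha⟩ := Finset.card_eq_one.1 h
        rw [ha, Finset.prod_singleton] at h8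
        rw [if_neg (by omega), ha, Finset.sum_singleton, (X.single hn ha B).1]
        omega
      · rw [if_pos h.card]
        obtain ⟨a, a', hne, ha, he⟩ := h
        have h0 : n a ≠ 0 := M.mem_supp.1 (by rw [ha]; simp)
        rw [ha, Finset.prod_pair hne, he] at h8
        rw [ha, Finset.sum_pair hne, he, M.Dn_eq, ha, Finset.prod_pair hne, he, ← sq]
        have h9 := C.cL_add_u _ (X.res hn a) h0 (Sg a)
        have h10 := C.cL_add_u _ (X.res hn a) h0 (Sg a')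
        have h11 := Num.mul_two_sub_add h9
        have h12 := Num.mul_two_sub_add h10
        rw [← Nat.eq_sub_of_add_eq h9, ← Nat.eq_sub_of_add_eq h10]
        have h13 : 2 * (C.u (n a) (Sg a) * C.u (n a) (Sg a')) ≤ C.u (n a) (Sg a) ^ 2 + C.u (n a) (Sg a') ^ 2 := by
          nlinarith [sq_nonneg ((C.u (n a) (Sg a) : ℤ) - C.u (n a) (Sg a'))]
        omega
  obtain ⟨b, hb1, hb2⟩ : ∃ b, (Sg b).Nonempty ∧ F.val (Sg b) ≤ 4 * (Sg b).card := by
    by_contra h7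
    push Not at h7
    obtain ⟨b, -, hb⟩ := Finset.exists_ne_zero_of_sum_ne_zero (show ∑ b, (Sg b).card ≠ 0 by omega)
    have h8 : ∑ b, 4 * (Sg b).card < ∑ b, F.val (Sg b) := by
      refine Finset.sum_lt_sum (fun b _ => ?_) ⟨b, mem_univ _, h7 b (Finset.card_pos.1 (Nat.pos_of_ne_zero hb))⟩
      rcases (Sg b).eq_empty_or_nonempty with h | h
      · rw [h]; exact Nat.zero_le _
      · exact (h7 b h).le
    rw [← Finset.mul_sum] at h8
    omega
  refine X.upper hs (fun j => decide_eq_true_iff) (X.full.ct F X.okJ (X.deg2.top _ F) (fun hσ hd => ?_) _ hb1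
    (h4 b).1 (h4 b).2 hb2)
  refine X.flex hB hc hr0 hr hcod (fun n hn => (hs n hn).resolve_right fun h => ?_) hσ
  obtain ⟨a, ha⟩ := Function.ne_iff.1 (X.ne_zero hn)
  obtain ⟨j, hj⟩ := X.exists_j hn ha
  have h7 : decide ((M.supp j.1.1).card = 2) = false := hd j
  rw [hj, M.card_supp_act, h.card] at h7
  simp at h7

end Ctx

end Cfsg.Agent.TwoF.DC
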